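import Groth.Agent.Lib.FEtEq25.DepthTwo
import Mathlib.AlgebraicGeometry.Morphisms.LocalFlatDescent

/-!
# Global sections along flat base change, and descent of finite étale algebras
-/

set_option autoImplicit false
universe u

open CategoryTheory CategoryTheory.Limits AlgebraicGeometry TopologicalSpace Opposite

namespace Groth.Agent.PurityDesc25

variable {S T W WT : Scheme.{u}}

/-- Global sections of a quasi-compact quasi-separated scheme commute with flat affine base change. -/
theorem isPushout_appTop [IsAffine S] [IsAffine T] {g : W ⟶ S} [QuasiCompact g] [QuasiSeparated g]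
    {p : T ⟶ S} [Flat p] {a : WT ⟶ W} {b : WT ⟶ T} (H : IsPullback a b g p) :
    IsPushout g.appTop p.appTop a.appTop b.appTop := by
  have hW : IsCompact ((⊤ : W.Opens) : Set W) := by
    simpa using g.isCompact_preimage (isAffineOpen_top S).isCompact
  have hW' : IsQuasiSeparated (α := W) (⊤ : W.Opens) := by
    simpa using g.isQuasiSeparated_preimage (isAffineOpen_top S).isQuasiSeparated
  have hiso := isIso_pushoutSection_of_isQuasiSeparated_of_flat_right H (US := ⊤) (UT := ⊤)
    (UX := ⊤) (UY := ⊤) le_top le_top (by simp) (isAffineOpen_top S) (isAffineOpen_top T) hW hW'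
  have := (isIso_pushoutSection_iff H (US := ⊤) (UT := ⊤) (UX := ⊤) (UY := ⊤)
    le_top le_top (by simp)).1 hiso
  simpa [Scheme.Hom.appTop, Scheme.Hom.app_eq_appLE] using this

theorem bijective_appTop_base_change [IsAffine S] [IsAffine T] {g : W ⟶ S} [QuasiCompact g]
    [QuasiSeparated g] {p : T ⟶ S} [Flat p] {a : WT ⟶ W} {b : WT ⟶ T} (H : IsPullback a b g p)
    (hg : Function.Bijective g.appTop) : Function.Bijective b.appTop := by
  haveI : IsIso g.appTop := (ConcreteCategory.isIso_iff_bijective _).2 hg
  haveI := (isPushout_appTop H).isIso_inr_of_isIso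
  exact ConcreteCategory.bijective_of_isIso _

/-- Spec of the algebra of global sections. -/
noncomputable def hullMap [IsAffine S] (g : W ⟶ S) : Spec Γ(W, ⊤) ⟶ S :=
  Spec.map g.appTop ≫ S.isoSpec.inv

theorem hullMap_appTop [IsAffine S] (g : W ⟶ S) :
    (hullMap g).appTop = g.appTop ≫ (Scheme.ΓSpecIso Γ(W, ⊤)).inv := by
  rw [hullMap, Scheme.Hom.comp_appTop]
  have h : S.isoSpec.inv.appTop = (Scheme.ΓSpecIso Γ(S, ⊤)).inv := by
    haveI : IsIso S.isoSpec.hom.appTop := inferInstanceAs (IsIso (Scheme.Γ.map S.isoSpec.hom.op))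
    rw [← cancel_mono S.isoSpec.hom.appTop, ← Scheme.Hom.comp_appTop, Iso.hom_inv_id]
    simp [Scheme.isoSpec, Scheme.toSpecΓ_appTop]
  rw [h, ← Scheme.ΓSpecIso_inv_naturality]

/-- The algebra of sections is finite étale if it is so after every flat affine base change in a
family covering a quasi-compact surjective flat morphism. -/
theorem finite_etale_appTop_of_cover [IsAffine S] (g : W ⟶ S) [QuasiCompact g] [QuasiSeparated g]
    {P : Scheme.{u}} (p : P ⟶ S) [Flat p] [Surjective p] [QuasiCompact p]
    (h : ∀ (T : Scheme.{u}) [IsAffine T] (i : T ⟶ P) [IsOpenImmersion i],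
      (pullback.snd g (i ≫ p)).appTop.hom.Finite ∧ (pullback.snd g (i ≫ p)).appTop.hom.Etale) :
    g.appTop.hom.Finite ∧ g.appTop.hom.Etale := by
  have hz : IsFinite (hullMap g) ∧ Etale (hullMap g) := by
    haveI : IsAffineHom (hullMap g) := isAffineHom_of_isAffine _
    have key : ∀ (T : Scheme.{u}) [IsAffine T] (i : T ⟶ P) [IsOpenImmersion i],
        IsFinite (pullback.snd (hullMap g) (i ≫ p)) ∧ Etale (pullback.snd (hullMap g) (i ≫ p)) := by
      intro T _ i _
      haveI : IsAffine (pullback (hullMap g) (i ≫ p)) := inferInstance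
      have H1 := isPushout_appTop (IsPullback.of_hasPullback g (i ≫ p))
      have H2 := isPushout_appTop (IsPullback.of_hasPullback (hullMap g) (i ≫ p))
      rw [hullMap_appTop] at H2
      have H2' : IsPushout g.appTop (i ≫ p).appTop
          ((Scheme.ΓSpecIso Γ(W, ⊤)).inv ≫ (pullback.fst (hullMap g) (i ≫ p)).appTop)
          (pullback.snd (hullMap g) (i ≫ p)).appTop :=
        H2.of_iso (Iso.refl _) (Scheme.ΓSpecIso Γ(W, ⊤)) (Iso.refl _) (Iso.refl _)
          (by simp) (by simp) (by simp) (by simp)
      have hθ := IsPushout.inr_isoIsPushout_hom _ _ H1 H2'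
      obtain ⟨hf, he⟩ := h T i
      rw [HasAffineProperty.iff_of_isAffine (P := @IsFinite),
        HasRingHomProperty.iff_of_isAffine (P := @Etale), ← hθ, CommRingCat.hom_comp]
      exact ⟨⟨inferInstance, RingHom.finite_respectsIso.1 _
          (IsPushout.isoIsPushout _ _ H1 H2').commRingCatIsoToRingEquiv hf⟩,
        RingHom.Etale.respectsIso.1 _
          (IsPushout.isoIsPushout _ _ H1 H2').commRingCatIsoToRingEquiv he⟩
    have hall : IsFinite (pullback.snd (hullMap g) p) ∧ Etale (pullback.snd (hullMap g) p) := by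
      constructor
      · refine (IsZariskiLocalAtTarget.iff_of_openCover (P := @IsFinite) P.affineCover).2 fun j => ?_
        exact ((MorphismProperty.arrow_mk_iso_iff (P := @IsFinite)
          (Arrow.isoMk (pullbackLeftPullbackSndIso (hullMap g) p (P.affineCover.f j)) (Iso.refl _)
            (by simp [Scheme.Cover.pullbackHom]))).2 (key _ _).1)
      · refine (IsZariskiLocalAtTarget.iff_of_openCover (P := @Etale) P.affineCover).2 fun j => ?_
        exact ((MorphismProperty.arrow_mk_iso_iff (P := @Etale)
          (Arrow.isoMk (pullbackLeftPullbackSndIso (hullMap g) p (P.affineCover.f j)) (Iso.refl _)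
            (by simp [Scheme.Cover.pullbackHom]))).2 (key _ _).2)
    have hq : (@Surjective ⊓ @Flat ⊓ @QuasiCompact : MorphismProperty Scheme.{u}) p :=
      ⟨⟨inferInstance, inferInstance⟩, inferInstance⟩
    haveI := hall.1
    have het : Etale (hullMap g) := MorphismProperty.of_pullback_snd_of_descendsAlong (P := @Etale)
      (Q := @Surjective ⊓ @Flat ⊓ @QuasiCompact) hq hall.2
    haveI : UniversallyClosed (hullMap g) :=
      MorphismProperty.of_pullback_snd_of_descendsAlong (P := @UniversallyClosed)
        (Q := @Surjective ⊓ @Flat ⊓ @QuasiCompact) hq inferInstance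
    haveI : LocallyOfFiniteType (hullMap g) :=
      MorphismProperty.of_pullback_snd_of_descendsAlong (P := @LocallyOfFiniteType)
        (Q := @Surjective ⊓ @Flat ⊓ @QuasiCompact) hq inferInstance
    haveI : IsIntegralHom (hullMap g) := by
      rw [IsIntegralHom.iff_universallyClosed_and_isAffineHom]
      exact ⟨inferInstance, inferInstance⟩
    exact ⟨(IsFinite.iff_isIntegralHom_and_locallyOfFiniteType _).2 ⟨inferInstance, inferInstance⟩,
      het⟩
  obtain ⟨h1, h2⟩ := hz
  rw [HasAffineProperty.iff_of_isAffine (P := @IsFinite), hullMap_appTop] at h1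
  rw [HasRingHomProperty.iff_of_isAffine (P := @Etale), hullMap_appTop] at h2
  exact ⟨(RingHom.finite_respectsIso.cancel_right_isIso g.appTop _).1 h1.2,
    (RingHom.Etale.respectsIso.cancel_right_isIso g.appTop _).1 h2⟩

end Groth.Agent.PurityDesc25
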