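import Groth.Agent.Lib.PurityDesc25.Affine
import Groth.Prelude.Def_SGA2
import Mathlib.AlgebraicGeometry.Normalization

/-!
# Descent of purity along faithfully flat quasi-compact morphisms
-/

set_option autoImplicit false
universe u

open CategoryTheory CategoryTheory.Limits AlgebraicGeometry TopologicalSpace Opposite

namespace Groth.Agent.PurityDesc25

theorem finite_comp_iso {A B C : CommRingCat.{u}} (a : A ⟶ B) (b : B ⟶ C) (hb : IsIso b) :
    (a ≫ b).hom.Finite ↔ a.hom.Finite :=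
  RingHom.finite_respectsIso.cancel_right_isIso a b

theorem etale_comp_iso {A B C : CommRingCat.{u}} (a : A ⟶ B) (b : B ⟶ C) (hb : IsIso b) :
    (a ≫ b).hom.Etale ↔ a.hom.Etale :=
  RingHom.Etale.respectsIso.cancel_right_isIso a b

theorem isIso_map_eqToHom {Y : Scheme.{u}} {O O' : Y.Opens} (h : O = O') :
    IsIso (Y.presheaf.map (eqToHom h).op) := by
  subst h
  infer_instance

/-- Finite étale covers of the trace of `O` on affine opens extend. -/
def ExtendsOpens (X₁ : Scheme.{u}) (O : X₁.Opens) : Prop :=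
  ∀ (T : Scheme.{u}) [IsAffine T] (i : T ⟶ X₁) [IsOpenImmersion i] (TU : Scheme.{u}) (q : TU ⟶ T)
    [IsOpenImmersion q], Set.range q = i ⁻¹' (O : Set X₁) →
    ∀ (Y : Scheme.{u}) (w : Y ⟶ TU) [IsFinite w] [Etale w],
      ∃ (C : Scheme.{u}) (c : C ⟶ T) (q' : Y ⟶ C), IsFinite c ∧ Etale c ∧ IsPullback w q' q c

theorem extendsOpens_of_isPurePair {X₁ : Scheme.{u}} {O : X₁.Opens} (h : SGA2.IsPurePair X₁ O) :
    ExtendsOpens X₁ O := by
  intro T _ i _ TU q _ hq Y w _ _
  let V₁ : X₁.Opens := i.opensRange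
  let j := X₁.homOfLE (inf_le_left : V₁ ⊓ O ≤ V₁)
  haveI := h V₁
  let eT : T ≅ (V₁ : Scheme.{u}) := i.isoOpensRange
  have hrange : Set.range (q ≫ i) = Set.range (V₁ ⊓ O).ι := by
    rw [Scheme.Opens.range_ι, Scheme.Hom.comp_base, TopCat.coe_comp, Set.range_comp, hq,
      Set.image_preimage_eq_range_inter]
    rfl
  let eU : TU ≅ ((V₁ ⊓ O : X₁.Opens) : Scheme.{u}) := IsOpenImmersion.isoOfRangeEq (q ≫ i) _ hrange
  have heU : eU.hom ≫ j = q ≫ eT.hom := by
    rw [← cancel_mono V₁.ι]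
    simp only [j, eU, eT, Category.assoc, Scheme.homOfLE_ι,
      IsOpenImmersion.isoOfRangeEq_hom_fac, Scheme.Hom.isoOpensRange_hom_ι, V₁]
  haveI : IsFinite (w ≫ eU.hom) := MorphismProperty.comp_mem _ _ _ ‹_› inferInstance
  haveI : Etale (w ≫ eU.hom) := MorphismProperty.comp_mem _ _ _ ‹_› inferInstance
  let Y' : FEt.Cat ((V₁ ⊓ O : X₁.Opens) : Scheme.{u}) :=
    MorphismProperty.Over.mk ⊤ (w ≫ eU.hom) ⟨inferInstance, inferInstance⟩
  let C := (FEt.restrict j).objPreimage Y'
  let e : (FEt.restrict j).obj C ≅ Y' := (FEt.restrict j).objObjPreimageIso Y'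
  let el : pullback C.hom j ≅ Y :=
    { hom := e.hom.left, inv := e.inv.left
      hom_inv_id := congrArg (fun z => z.left) e.hom_inv_id
      inv_hom_id := congrArg (fun z => z.left) e.inv_hom_id }
  have hel : el.hom ≫ w ≫ eU.hom = pullback.snd C.hom j := Over.w e.hom.hom
  have h1 : IsPullback (w ≫ eU.hom) (el.inv ≫ pullback.fst C.hom j) j C.hom :=
    (IsPullback.of_hasPullback C.hom j).flip.of_iso el (Iso.refl _) (Iso.refl _) (Iso.refl _)
      (by simp [hel]) (by simp) (by simp) (by simp)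
  have hC1 : IsFinite C.hom := C.prop.1
  have hC2 : Etale C.hom := C.prop.2
  refine ⟨C.left, C.hom ≫ eT.inv, el.inv ≫ pullback.fst C.hom j,
    MorphismProperty.comp_mem _ _ _ hC1 inferInstance,
    MorphismProperty.comp_mem _ _ _ hC2 inferInstance, ?_⟩
  refine h1.of_iso (Iso.refl _) eU.symm (Iso.refl _) eT.symm (by simp) (by simp) ?_ (by simp)
  simp only [Iso.symm_hom, Iso.refl_hom]
  rw [Iso.comp_inv_eq, Category.assoc, ← heU, Iso.inv_hom_id_assoc]

variable {X X₁ : Scheme.{u}} [IsLocallyNoetherian X] (U : X.Opens)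
  (hU : ∀ x : X, x ∉ U → (2 : ℕ∞) ≤ LocCoh.depth (X.presheaf.stalk x) (X.presheaf.stalk x))
  (f : X₁ ⟶ X) [Flat f] [Surjective f] [QuasiCompact f]
  (hP : ExtendsOpens X₁ (f ⁻¹ᵁ U))

include hU hP

theorem finite_etale_appTop_snd (W : Scheme.{u}) (w : W ⟶ (U : Scheme.{u})) [IsFinite w] [Etale w]
    (V₀ : X.Opens) (hV₀ : IsAffineOpen V₀) :
    (pullback.snd (w ≫ U.ι) V₀.ι).appTop.hom.Finite ∧
      (pullback.snd (w ≫ U.ι) V₀.ι).appTop.hom.Etale := by
  haveI : IsAffine (V₀ : Scheme.{u}) := hV₀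
  refine finite_etale_appTop_of_cover (pullback.snd (w ≫ U.ι) V₀.ι) (pullback.snd f V₀.ι)
    fun T _ i _ => ?_
  set pT := i ≫ pullback.snd f V₀.ι with hpT
  let pX : T ⟶ X := pT ≫ V₀.ι
  let i' : T ⟶ X₁ := i ≫ pullback.fst f V₀.ι
  have hi' : i' ≫ f = pX := by simp [i', pX, pT, pullback.condition]
  let qU := pullback.snd U.ι pX
  have hrange : Set.range qU = i' ⁻¹' ((f ⁻¹ᵁ U : X₁.Opens) : Set X₁) := by
    rw [IsOpenImmersion.range_pullbackSnd, Scheme.Opens.opensRange_ι, ← hi']
    rfl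
  let wT := pullback.snd w (pullback.fst U.ι pX)
  obtain ⟨C, c, q', hc1, hc2, hC⟩ := hP T i' _ qU hrange _ wT
  haveI : IsAffine C := isAffine_of_isAffineHom c
  haveI : Flat pT := inferInstanceAs (Flat (i ≫ pullback.snd f V₀.ι))
  have hbase : Function.Bijective (pullback.snd U.ι V₀.ι).appTop := by
    refine FEtEq25.bijective_appTop_of_depth_two _ fun z hz => ?_
    rw [IsOpenImmersion.range_pullbackSnd, Scheme.Opens.opensRange_ι] at hz
    exact le_trans (hU _ hz)
      (FEtEq25.depth_le_of_flat_local (V₀.ι.stalkMap z).hom (Flat.stalkMap V₀.ι z))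
  have hsq : IsPullback (pullback.lift (pullback.fst U.ι pX) (qU ≫ pT)
      (by rw [Category.assoc]; exact pullback.condition)) qU (pullback.snd U.ι V₀.ι) pT := by
    refine IsPullback.of_right ?_ (pullback.lift_snd _ _ _) (IsPullback.of_hasPullback U.ι V₀.ι)
    rw [pullback.lift_fst]
    exact IsPullback.of_hasPullback U.ι pX
  have hqU : Function.Bijective qU.appTop := bijective_appTop_base_change hsq hbase
  have hcfin : c.appTop.hom.Finite := Scheme.Hom.finite_appTop c
  have hcet : c.appTop.hom.Etale := (HasRingHomProperty.iff_of_isAffine (P := @Etale)).1 hc2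
  have hq' : Function.Bijective q'.appTop :=
    FEtEq25.bijective_appTop_of_affine hC hqU hcfin
      ((HasRingHomProperty.iff_of_isAffine (P := @Flat)).1 inferInstance)
      ((HasRingHomProperty.iff_of_isAffine (P := @LocallyOfFinitePresentation)).1 inferInstance)
  haveI : IsIso q'.appTop := (ConcreteCategory.isIso_iff_bijective _).2 hq'
  have hbig : IsPullback (pullback.fst w (pullback.fst U.ι pX)) (wT ≫ qU) (w ≫ U.ι) pX :=
    (IsPullback.of_hasPullback w (pullback.fst U.ι pX)).paste_vert (IsPullback.of_hasPullback U.ι pX)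
  have hbig' : IsPullback (pullback.fst (pullback.snd (w ≫ U.ι) V₀.ι) pT ≫ pullback.fst (w ≫ U.ι) V₀.ι)
      (pullback.snd (pullback.snd (w ≫ U.ι) V₀.ι) pT) (w ≫ U.ι) pX :=
    (IsPullback.of_hasPullback (pullback.snd (w ≫ U.ι) V₀.ι) pT).paste_horiz
      (IsPullback.of_hasPullback (w ≫ U.ι) V₀.ι)
  have hsnd : pullback.snd (pullback.snd (w ≫ U.ι) V₀.ι) pT =
      ((IsPullback.isoIsPullback _ _ hbig' hbig).hom ≫ q') ≫ c := by
    rw [Category.assoc, ← hC.w, IsPullback.isoIsPullback_hom_snd]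
  rw [hsnd, Scheme.Hom.comp_appTop]
  haveI : IsIso (IsPullback.isoIsPullback _ _ hbig' hbig).hom.appTop :=
    inferInstanceAs (IsIso (Scheme.Γ.map (IsPullback.isoIsPullback _ _ hbig' hbig).hom.op))
  rw [Scheme.Hom.comp_appTop]
  exact ⟨(RingHom.finite_respectsIso.cancel_right_isIso c.appTop _).2 hcfin,
    (RingHom.Etale.respectsIso.cancel_right_isIso c.appTop _).2 hcet⟩

theorem finite_etale_app (W : Scheme.{u}) (w : W ⟶ (U : Scheme.{u})) [IsFinite w] [Etale w]
    (V₀ : X.Opens) (hV₀ : IsAffineOpen V₀) :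
    ((w ≫ U.ι).app V₀).hom.Finite ∧ ((w ≫ U.ι).app V₀).hom.Etale := by
  set g := w ≫ U.ι
  obtain ⟨h1, h2⟩ := finite_etale_appTop_snd U hU f hP W w V₀ hV₀
  have key : (g ∣_ V₀).appTop.hom.Finite ∧ (g ∣_ V₀).appTop.hom.Etale := by
    have h : g ∣_ V₀ = (pullbackRestrictIsoRestrict g V₀).inv ≫ pullback.snd g V₀.ι := by
      rw [Iso.eq_inv_comp, pullbackRestrictIsoRestrict_hom_morphismRestrict]
    haveI : IsIso (pullbackRestrictIsoRestrict g V₀).inv.appTop :=
      inferInstanceAs (IsIso (Scheme.Γ.map (pullbackRestrictIsoRestrict g V₀).inv.op))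
    rw [h, Scheme.Hom.comp_appTop]
    exact ⟨(RingHom.finite_respectsIso.cancel_right_isIso _ _).2 h1,
      (RingHom.Etale.respectsIso.cancel_right_isIso _ _).2 h2⟩
  rw [morphismRestrict_appTop] at key
  replace key : (g.app (V₀.ι ''ᵁ ⊤)).hom.Finite ∧ (g.app (V₀.ι ''ᵁ ⊤)).hom.Etale :=
    ⟨(finite_comp_iso _ _ (isIso_map_eqToHom _)).1 key.1,
      (etale_comp_iso _ _ (isIso_map_eqToHom _)).1 key.2⟩
  have gen : ∀ V' : X.Opens, V' = V₀ → (g.app V').hom.Finite ∧ (g.app V').hom.Etale →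
      (g.app V₀).hom.Finite ∧ (g.app V₀).hom.Etale := by rintro V' rfl h; exact h
  exact gen _ V₀.ι_image_top key

/-- Finite étale covers of `U` extend. -/
theorem exists_extension (W : Scheme.{u}) (w : W ⟶ (U : Scheme.{u})) [IsFinite w] [Etale w] :
    ∃ (E : Scheme.{u}) (h : E ⟶ X) (t : W ⟶ E), IsFinite h ∧ Etale h ∧ IsPullback t w h U.ι := by
  let g := w ≫ U.ι
  haveI : QuasiCompact g := inferInstanceAs (QuasiCompact (w ≫ U.ι))
  haveI : QuasiSeparated g := inferInstanceAs (QuasiSeparated (w ≫ U.ι))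
  have hloc : ∀ V₀ : X.Opens, IsAffineOpen V₀ →
      (g.fromNormalization.app V₀).hom.Finite ∧ (g.fromNormalization.app V₀).hom.Etale ∧
        (IsAffineOpen (g ⁻¹ᵁ V₀) → IsIso (g.toNormalization ∣_ (g.fromNormalization ⁻¹ᵁ V₀))) := by
    intro V₀ hV₀
    obtain ⟨hfin, het⟩ := finite_etale_app U hU f hP W w V₀ hV₀
    change (g.app V₀).hom.Finite at hfin
    change (g.app V₀).hom.Etale at het
    letI := (g.app V₀).hom.toAlgebra
    have htop : integralClosure Γ(X, V₀) Γ(W, g ⁻¹ᵁ V₀) = ⊤ := by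
      rw [integralClosure_eq_top_iff]
      haveI : Module.Finite Γ(X, V₀) Γ(W, g ⁻¹ᵁ V₀) := hfin
      infer_instance
    have hval : Function.Bijective (integralClosure Γ(X, V₀) Γ(W, g ⁻¹ᵁ V₀)).val.toRingHom :=
      ⟨Subtype.val_injective, fun x => ⟨⟨x, htop ▸ Algebra.mem_top⟩, rfl⟩⟩
    haveI hvi : IsIso (CommRingCat.ofHom (integralClosure Γ(X, V₀) Γ(W, g ⁻¹ᵁ V₀)).val.toRingHom) :=
      (ConcreteCategory.isIso_iff_bijective _).2 hval
    have hobj := g.normalizationObjIso_hom_val hV₀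
    have happ : g.fromNormalization.app V₀ ≫ (g.normalizationObjIso hV₀).hom ≫
        CommRingCat.ofHom (integralClosure Γ(X, V₀) Γ(W, g ⁻¹ᵁ V₀)).val.toRingHom = g.app V₀ := by
      rw [g.fromNormalization_app hV₀, Category.assoc, Iso.inv_hom_id_assoc]
      rfl
    refine ⟨?_, ?_, fun haff => ?_⟩
    · exact (finite_comp_iso _ _ inferInstance).1 (happ.symm ▸ hfin)
    · exact (etale_comp_iso _ _ inferInstance).1 (happ.symm ▸ het)
    · set O := g.fromNormalization ⁻¹ᵁ V₀
      haveI : IsAffine (O : Scheme.{u}) := hV₀.preimage g.fromNormalization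
      have hpre : g.toNormalization ⁻¹ᵁ O = g ⁻¹ᵁ V₀ := by
        rw [← Scheme.Hom.comp_preimage, Scheme.Hom.toNormalization_fromNormalization]
      haveI : IsAffine ((g.toNormalization ⁻¹ᵁ O) : Scheme.{u}) := by rw [hpre]; exact haff
      have happO : IsIso (g.toNormalization.app O) := by
        rw [g.toNormalization_app_preimage ⟨V₀, hV₀⟩]
        haveI : IsIso (W.presheaf.map (eqToHom hpre).op) := isIso_map_eqToHom hpre
        exact IsIso.comp_isIso' inferInstance (IsIso.comp_isIso' hvi (isIso_map_eqToHom _))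
      have hO : ∀ O' : g.normalization.Opens, O' = O → IsIso (g.toNormalization.app O') := by
        rintro O' rfl; exact happO
      have hO' := hO _ O.ι_image_top
      have : IsIso (g.toNormalization ∣_ O).appTop := by
        rw [morphismRestrict_appTop]
        exact IsIso.comp_isIso' hO' (isIso_map_eqToHom _)
      exact (HasAffineProperty.iff_of_isAffine (P := MorphismProperty.isomorphisms Scheme.{u})).2
        ⟨inferInstance, this⟩
  have hfinite : IsFinite g.fromNormalization := by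
    rw [isFinite_iff]
    exact ⟨inferInstance, fun V hV => (hloc V hV).1⟩
  have hetale : Etale g.fromNormalization := by
    rw [IsZariskiLocalAtTarget.iff_of_iSup_eq_top (P := @Etale) _ (iSup_affineOpens_eq_top X)]
    intro V
    haveI : IsAffine (V.1 : Scheme.{u}) := V.2
    haveI : IsAffine ((g.fromNormalization ⁻¹ᵁ V.1) : Scheme.{u}) := V.2.preimage _
    rw [HasRingHomProperty.iff_of_isAffine (P := @Etale), morphismRestrict_appTop]
    exact (etale_comp_iso _ _ (isIso_map_eqToHom _)).2 (hloc _ (V.1.ι_image_top.symm ▸ V.2)).2.1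
  refine ⟨g.normalization, g.fromNormalization, g.toNormalization, hfinite, hetale, ?_⟩
  have hgU : g ⁻¹ᵁ U = ⊤ := by
    ext x
    simp only [Opens.coe_top, Set.mem_univ, iff_true]
    exact (w x).2
  set O := g.fromNormalization ⁻¹ᵁ U
  let I := {V : X.affineOpens // V.1 ≤ U}
  have hiso : IsIso (g.toNormalization ∣_ O) := by
    refine (IsZariskiLocalAtTarget.iff_of_iSup_eq_top (P := MorphismProperty.isomorphisms Scheme.{u})
      (fun V : I => O.ι ⁻¹ᵁ (g.fromNormalization ⁻¹ᵁ V.1.1)) ?_).2 fun V => ?_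
    · refine top_unique fun x _ => ?_
      obtain ⟨V, hV, hxV, hVU⟩ := exists_isAffineOpen_mem_and_subset (X := X) (U := U)
        (x := g.fromNormalization x.1) x.2
      exact Opens.mem_iSup.2 ⟨⟨⟨V, hV⟩, hVU⟩, hxV⟩
    · have haff : IsAffineOpen (g ⁻¹ᵁ V.1.1) := by
        have : g ⁻¹ᵁ V.1.1 = w ⁻¹ᵁ (U.ι ⁻¹ᵁ V.1.1) := rfl
        rw [this]
        exact (V.1.2.preimage_of_isOpenImmersion U.ι (by simpa using V.2)).preimage w
      refine (MorphismProperty.arrow_mk_iso_iff (MorphismProperty.isomorphisms Scheme.{u})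
        (morphismRestrictRestrict g.toNormalization O _)).2 ?_
      have hle : O.ι ''ᵁ (O.ι ⁻¹ᵁ (g.fromNormalization ⁻¹ᵁ V.1.1)) = g.fromNormalization ⁻¹ᵁ V.1.1 := by
        rw [Scheme.Hom.image_preimage_eq_opensRange_inf, Scheme.Opens.opensRange_ι]
        exact inf_eq_right.2 (g.fromNormalization.preimage_mono V.2)
      rw [hle]
      exact (hloc _ V.1.2).2.2 haff
  haveI := hiso
  have hpre : g.toNormalization ⁻¹ᵁ O = ⊤ := by
    rw [← Scheme.Hom.comp_preimage, Scheme.Hom.toNormalization_fromNormalization, hgU]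
  have h1 : IsPullback O.ι (g.fromNormalization ∣_ U) g.fromNormalization U.ι :=
    (isPullback_morphismRestrict g.fromNormalization U).flip
  haveI : IsIso (g.toNormalization ⁻¹ᵁ O).ι := by
    rw [hpre]
    exact inferInstanceAs (IsIso W.topIso.hom)
  let e : W ≅ (O : Scheme.{u}) :=
    (asIso (g.toNormalization ⁻¹ᵁ O).ι).symm ≪≫ asIso (g.toNormalization ∣_ O)
  have he : e.hom ≫ O.ι = g.toNormalization := by
    simp [e, morphismRestrict_ι]
  refine h1.of_iso e.symm (Iso.refl _) (Iso.refl _) (Iso.refl _) ?_ ?_ (by simp) (by simp)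
  · simp only [Iso.symm_hom, Iso.refl_hom, Category.comp_id]
    rw [← he, Iso.inv_hom_id_assoc]
  · simp only [Iso.symm_hom, Iso.refl_hom, Category.comp_id]
    rw [← cancel_mono U.ι, morphismRestrict_ι, Category.assoc, Iso.eq_inv_comp, reassoc_of% he]
    exact g.toNormalization_fromNormalization

end Groth.Agent.PurityDesc25

namespace Groth.Agent.PurityDesc25

variable {Z : Scheme.{u}} [IsLocallyNoetherian Z] {W : Scheme.{u}} (j : W ⟶ Z) [IsOpenImmersion j]

/-- An open subscheme with complement of depth at least two meets every nonempty open. -/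
theorem inter_range_nonempty_of_depth_two
    (h : ∀ z : Z, z ∉ Set.range j → (2 : ℕ∞) ≤ LocCoh.depth (Z.presheaf.stalk z) (Z.presheaf.stalk z))
    {S : Set Z} (hS : IsOpen S) (hne : S.Nonempty) : (S ∩ Set.range j).Nonempty := by
  obtain ⟨x, hx⟩ := hne
  set η := (isIrreducible_irreducibleComponent (x := x)).genericPoint with hη
  have hgen : IsGenericPoint η (irreducibleComponent x) := by
    have := (isIrreducible_irreducibleComponent (x := x)).isGenericPoint_genericPoint_closure
    rwa [isClosed_irreducibleComponent.closure_eq] at this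
  refine ⟨η, (hgen.specializes mem_irreducibleComponent).mem_open hS hx, ?_⟩
  by_contra hη'
  have hmax : IsMax η := by
    intro y hy
    have hy' : y ⤳ η := hy
    have hsub : irreducibleComponent x ⊆ closure {y} := by
      rw [← hgen.def]
      exact (specializes_iff_closure_subset.1 hy')
    have heq : closure {y} = irreducibleComponent x := by
      refine le_antisymm ?_ hsub
      exact eq_irreducibleComponent isIrreducible_singleton.closure.isPreirreducible hsub ▸ le_rfl
    exact (show η ⤳ y from specializes_iff_closure_subset.2 (by rw [hgen.def, heq]))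
  have h0 : ringKrullDim (Z.presheaf.stalk η) = 0 := by
    rw [ringKrullDim_stalk_eq_coheight, (Order.coheight_eq_zero).2 hmax]
    rfl
  have h2 : ((2 : ℕ∞) : WithBot ℕ∞) ≤ 0 := by
    rw [← h0, ← Module.supportDim_self_eq_ringKrullDim]
    exact (WithBot.coe_le_coe.2 (h η hη')).trans DepthLib.depth_le_supportDim
  norm_cast at h2

/-- Restriction to an open subscheme with complement of depth two is fully faithful. -/
theorem fullFaithful_openImmersion
    (h : ∀ z : Z, z ∉ Set.range j → (2 : ℕ∞) ≤ LocCoh.depth (Z.presheaf.stalk z) (Z.presheaf.stalk z)) :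
    (FEt.restrict j).Full ∧ (FEt.restrict j).Faithful := by
  have hT : ∀ S : Set Z, IsClopen S → S.Nonempty → (S ∩ Set.range j).Nonempty := fun S hS hne =>
    inter_range_nonempty_of_depth_two j h hS.2 hne
  refine ⟨FEtEq25.full_restrict _ hT ?_, FEtEq25.faithful_restrict _ hT⟩
  intro Y g hg C hC
  have : IsFinite g := hg.1
  have : Etale g := hg.2
  have : IsLocallyNoetherian Y := LocallyOfFiniteType.isLocallyNoetherian g
  refine FEtEq25.exists_clopen_of_depth_two (pullback.fst g j) (fun z hz => ?_) C hC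
  rw [Scheme.Pullback.range_fst, Set.mem_preimage] at hz
  exact le_trans (h _ hz) (FEtEq25.depth_le_of_flat_local (g.stalkMap z).hom (Flat.stalkMap g z))

/-- Purity descends along faithfully flat quasi-compact morphisms. -/
theorem isPurePair_descends {X X₁ : Scheme.{u}} [IsLocallyNoetherian X] (U : X.Opens)
    (hU : ∀ x : X, x ∉ U → (2 : ℕ∞) ≤ LocCoh.depth (X.presheaf.stalk x) (X.presheaf.stalk x))
    (f : X₁ ⟶ X) [Flat f] [Surjective f] [QuasiCompact f] (hP : ExtendsOpens X₁ (f ⁻¹ᵁ U)) :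
    SGA2.IsPurePair X U := by
  intro V
  set jV := X.homOfLE (inf_le_left : V ⊓ U ≤ V) with hjV
  let U' : (V : Scheme.{u}).Opens := V.ι ⁻¹ᵁ U
  have hU' : ∀ z : (V : Scheme.{u}), z ∉ U' →
      (2 : ℕ∞) ≤ LocCoh.depth ((V : Scheme.{u}).presheaf.stalk z) ((V : Scheme.{u}).presheaf.stalk z) :=
    fun z hz => le_trans (hU _ hz)
      (FEtEq25.depth_le_of_flat_local (V.ι.stalkMap z).hom (Flat.stalkMap V.ι z))
  have hrange : Set.range jV = (U' : Set (V : Scheme.{u})) := by
    have h := congrArg (fun O : X.Opens => V.ι ⁻¹' (O : Set X))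
      (show (jV ≫ V.ι).opensRange = V ⊓ U by simp [jV])
    simp only [Scheme.Hom.coe_opensRange, Scheme.Hom.comp_base, TopCat.coe_comp, Set.range_comp] at h
    rw [Set.preimage_image_eq _ V.ι.isOpenEmbedding.injective] at h
    rw [h]
    ext z
    exact ⟨fun hz => hz.2, fun hz => ⟨z.2, hz⟩⟩
  obtain ⟨hfull, hfaith⟩ := fullFaithful_openImmersion jV fun z hz => hU' z (by rwa [hrange] at hz)
  refine { faithful := hfaith, full := hfull, essSurj := ⟨fun Y => ?_⟩ }
  let eU : ((V ⊓ U : X.Opens) : Scheme.{u}) ≅ (U' : Scheme.{u}) :=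
    IsOpenImmersion.isoOfRangeEq jV U'.ι (by rw [hrange, Scheme.Opens.range_ι])
  have hP' : ExtendsOpens (pullback f V.ι) ((pullback.snd f V.ι) ⁻¹ᵁ U') := by
    intro T _ i _ TU q _ hq
    refine hP T (i ≫ pullback.fst f V.ι) TU q ?_
    rw [hq]
    ext t
    show V.ι (pullback.snd f V.ι (i t)) ∈ U ↔ f (pullback.fst f V.ι (i t)) ∈ U
    rw [← Scheme.Hom.comp_apply, ← Scheme.Hom.comp_apply (pullback.fst f V.ι) f, pullback.condition]
  have hY1 : IsFinite Y.hom := Y.prop.1
  have hY2 : Etale Y.hom := Y.prop.2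
  haveI : IsFinite (Y.hom ≫ eU.hom) := MorphismProperty.comp_mem _ _ _ hY1 inferInstance
  haveI : Etale (Y.hom ≫ eU.hom) := MorphismProperty.comp_mem _ _ _ hY2 inferInstance
  obtain ⟨E, h, t, hh1, hh2, hpb⟩ :=
    exists_extension U' hU' (pullback.snd f V.ι) hP' Y.left (Y.hom ≫ eU.hom)
  have hpb' : IsPullback t Y.hom h jV :=
    hpb.of_iso (Iso.refl _) (Iso.refl _) eU.symm (Iso.refl _) (by simp) (by simp) (by simp)
      (by simp [eU])
  refine ⟨MorphismProperty.Over.mk ⊤ h ⟨hh1, hh2⟩, ⟨MorphismProperty.Over.isoMk ?_ ?_⟩⟩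
  · exact hpb'.isoPullback.symm
  · exact hpb'.isoPullback_inv_snd

end Groth.Agent.PurityDesc25
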